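import Groth.Agent.Lib.HilbProj18.Coord
import Groth.Agent.Lib.HilbRep25.Chart
import Mathlib.AlgebraicGeometry.ValuativeCriterion
import Mathlib.RingTheory.Valuation.ValuationRing

/-!
# The charts of a Hilbert scheme of points of a finite morphism, and the valuative criterion
-/

set_option autoImplicit false
set_option linter.unusedSectionVars false
set_option backward.isDefEq.respectTransparency.types false

universe u

open CategoryTheory CategoryTheory.Limits AlgebraicGeometry
open scoped TensorProduct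

namespace Groth.Agent.HilbProj18

open Groth.Agent.HilbRep25

variable {X S : Scheme.{u}} {f : X ⟶ S} [IsSeparated f] {d : ℕ} {H : Over S} (Z : HilbD.Obj f d H)
  (hZ : HilbD.IsUniversal f d H Z) {A C : Type u} [CommRing A] [CommRing C] [Algebra A C] (F : Frame f A C)
  (β : Fin d → C)

include hZ in
theorem hom_ext {T : Over S} (a b : T ⟶ H) (h : HilbD.pull f a Z.1 = HilbD.pull f b Z.1) : a = b :=
  (hZ T ⟨_, HilbBC25.isFinLocFreeOfDeg_pull f d b Z.1 Z.2⟩).unique h rfl

include hZ in
/-- The chart inside the representing scheme. -/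
theorem exists_chartHom :
    ∃ k : F.TR (Univ A β) ⟶ H, HilbD.pull f k Z.1 = (F.univ β).1 ∧ IsOpenImmersion k.left ∧
      (∀ {R : Type u} [CommRing R] [Algebra A R] (a : F.TR R ⟶ H),
        (∃ h, h ≫ k = a) ↔ F.HasCoord β Z a) := by
  obtain ⟨k, hk, -⟩ := hZ _ (F.univ β)
  have key : ∀ {T : Over S} (a : T ⟶ H) (h : T ⟶ F.TR (Univ A β)),
      HilbD.pull f h (F.univ β).1 = HilbD.pull f a Z.1 ↔ h ≫ k = a := fun a h => by
    constructor
    · intro e
      exact hom_ext Z hZ _ _ (by rw [HilbBC25.pull_comp, hk, e])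
    · rintro rfl
      rw [HilbBC25.pull_comp, hk]
  refine ⟨k, hk, ?_, fun a => ?_⟩
  · obtain ⟨O, hO⟩ := (F.chart β).exists_locus H Z
    have hkO : ∀ y, k.left y ∈ O := (hO k).2 ⟨𝟙 _, (key k (𝟙 _)).2 (Category.id_comp _)⟩
    let l : (F.TR (Univ A β)).left ⟶ O.toScheme := IsOpenImmersion.lift O.ι k.left (by
      rintro _ ⟨y, rfl⟩
      rw [Scheme.Opens.range_ι]; exact hkO y)
    have hl : l ≫ O.ι = k.left := IsOpenImmersion.lift_fac _ _ _
    let T : Over S := Over.mk (O.ι ≫ H.hom)
    let g : T ⟶ H := Over.homMk O.ι rfl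
    obtain ⟨h, hh⟩ : ∃ h : T ⟶ F.TR (Univ A β), HilbD.pull f h (F.univ β).1 = HilbD.pull f g Z.1 :=
      (hO g).1 fun y => y.2
    have h1 : h ≫ k = g := (key g h).1 hh
    let L : F.TR (Univ A β) ⟶ T := Over.homMk l (by
      show l ≫ O.ι ≫ H.hom = _
      rw [← Category.assoc, hl, Over.w k])
    have h2 : L ≫ h = 𝟙 _ := F.eq_of_pull_eq β _ _ (by
      rw [(key k (L ≫ h)).2 (by rw [Category.assoc, h1]; exact Over.OverMorphism.ext hl),
        hk, HilbBC25.pull_id])
    haveI : IsIso l := ⟨h.left, congrArg CommaMorphism.left h2, by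
      rw [← cancel_mono O.ι, Category.assoc, hl, Category.id_comp]
      exact congrArg CommaMorphism.left h1⟩
    rw [← hl]
    infer_instance
  · rw [F.hasCoord_iff β Z a]
    exact exists_congr fun h => (key a h).symm

include hZ in
/-- A point with coordinates lands in each chart where the Plücker coordinate does not vanish. -/
theorem hasCoord_of_isUnit {R : Type u} [CommRing R] [Algebra A R] (a : F.TR R ⟶ H) {x : C → Fin d → R}
    (hx : IsCoord A β x) (e : HilbD.pull f a Z.1 = (F.zOf hx).1) (β' : Fin d → C) (hu : IsUnit (pd x β')) :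
    F.HasCoord β' Z a := by
  obtain ⟨x', hx', h, -⟩ := exists_isCoord_change F hx β' hu
  exact ⟨x', hx', by rw [e, h]⟩

/-- A point with values in a field has coordinates among generators. -/
theorem exists_hasCoord (hF : f ⁻¹ᵁ F.vA.opensRange ≤ F.uC.opensRange) {s : Set C}
    (hs : Submodule.span A s = ⊤) {K : Type u} [Field K] [Algebra A K] (a : F.TR K ⟶ H) :
    ∃ c : Fin d → C, (∀ i, c i ∈ s) ∧ F.HasCoord c Z a := by
  let ZR : HilbD.Obj f d (F.TR K) := ⟨HilbD.pull f a Z.1, HilbBC25.isFinLocFreeOfDeg_pull f d a Z.1 Z.2⟩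
  have hrangeC : ∀ z, (ZR.1.subschemeι ≫ pullback.fst f (F.TR K).hom) z ∈ Set.range F.uC := fun z => by
    apply hF
    show f ((ZR.1.subschemeι ≫ pullback.fst f (F.TR K).hom) z) ∈ F.vA.opensRange
    rw [← Scheme.Hom.comp_apply, Category.assoc, pullback.condition]
    exact ⟨Spec.map (CommRingCat.ofHom (algebraMap A K)) (pullback.snd f (F.TR K).hom (ZR.1.subschemeι z)), rfl⟩
  obtain ⟨Q, i₁, i₂, i₃, i₄, γ, hfin, -, hrk, hcl, hker⟩ := F.exists_data ZR hrangeC
  have hdim : Module.finrank K Q = d := by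
    have := hrk (⊥ : PrimeSpectrum K)
    rwa [Module.rankAtStalk_eq_finrank_of_free] at this
  have hspan : Submodule.span K (γ '' s) = ⊤ := by
    rw [eq_top_iff]
    rintro q -
    obtain ⟨w, rfl⟩ := F.presentation_surjective_of_isClosedImmersion (R := K) γ q
    induction w using TensorProduct.induction_on with
    | zero => simp
    | tmul r c =>
      have : presentation (R := K) γ (r ⊗ₜ c) = r • γ c := by simp [presentation, Algebra.smul_def]
      rw [this]
      refine Submodule.smul_mem _ _ ?_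
      clear this
      have hc : c ∈ Submodule.span A s := hs ▸ trivial
      induction hc using Submodule.span_induction with
      | mem c hc => exact Submodule.subset_span ⟨c, hc, rfl⟩
      | zero => rw [map_zero]; exact zero_mem _
      | add a b _ _ ha hb => rw [map_add]; exact add_mem ha hb
      | smul a b _ hb => rw [map_smul, ← algebraMap_smul K a]; exact Submodule.smul_mem _ _ hb
    | add a b ha hb => rw [map_add]; exact Submodule.add_mem _ ha hb
  obtain ⟨t, htγ, hts, hli⟩ := exists_linearIndependent K (γ '' s)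
  rw [hspan] at hts
  let b₀ : Module.Basis t K Q := Module.Basis.mk hli (by rw [Subtype.range_coe, hts])
  haveI : Finite t := Module.Finite.finite_basis b₀
  have hcard : Nat.card t = d := by rw [← Module.finrank_eq_nat_card_basis b₀, hdim]
  let e : t ≃ Fin d := Finite.equivFinOfCardEq hcard
  choose c hcs hc using fun i => htγ (e.symm i).2
  have hb : ∀ i, b₀.reindex e i = γ (c i) := fun i => by
    rw [Module.Basis.reindex_apply, Module.Basis.mk_apply, hc]
  refine ⟨c, hcs, _, isCoord_repr (β := c) γ (b₀.reindex e) hb, ?_⟩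
  rw [← F.fam_eq_zOf _ γ (b₀.reindex e) hb fun _ _ => rfl]
  exact hker.symm

include hZ in
/-- The chart of some tuple of generators contains each point over the affine open. -/
theorem exists_mem_range (hF : f ⁻¹ᵁ F.vA.opensRange ≤ F.uC.opensRange) {s : Set C}
    (hs : Submodule.span A s = ⊤) (y : H.left) (hy : H.hom y ∈ F.vA.opensRange) :
    ∃ c : Fin d → C, (∀ i, c i ∈ s) ∧
      ∀ k : F.TR (Univ A c) ⟶ H, HilbD.pull f k Z.1 = (F.univ c).1 → y ∈ Set.range k.left := by
  let K := H.left.residueField y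
  have hsub : Set.range (H.left.fromSpecResidueField y ≫ H.hom) ⊆ Set.range F.vA := by
    rintro _ ⟨z, rfl⟩
    rw [Scheme.Hom.comp_apply, Scheme.fromSpecResidueField_apply]
    exact hy
  obtain ⟨φA, hφA⟩ := Spec.map_surjective (IsOpenImmersion.lift F.vA _ hsub)
  letI : Algebra A K := φA.hom.toAlgebra
  let a : F.TR K ⟶ H := Over.homMk (H.left.fromSpecResidueField y) (by
    show _ = Spec.map φA ≫ F.vA
    rw [hφA, IsOpenImmersion.lift_fac])
  obtain ⟨c, hcs, hc⟩ := exists_hasCoord Z F hF hs a
  refine ⟨c, hcs, fun k hk => ?_⟩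
  obtain ⟨h, hh⟩ := (F.hasCoord_iff c Z a).1 hc
  have e : h ≫ k = a := hom_ext Z hZ _ _ (by rw [HilbBC25.pull_comp, hk, hh])
  refine ⟨h.left (⊥ : PrimeSpectrum K), ?_⟩
  have e' : h.left ≫ k.left = a.left := congrArg CommaMorphism.left e
  rw [← Scheme.Hom.comp_apply, e']
  exact Scheme.fromSpecResidueField_apply _ _

include hZ in
/-- Points with values in the fraction field of a valuation ring extend. -/
theorem exists_extension (hF : f ⁻¹ᵁ F.vA.opensRange ≤ F.uC.opensRange) {s : Set C} (hfin : s.Finite)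
    (hs : Submodule.span A s = ⊤) {R K : Type u} [CommRing R] [IsDomain R] [ValuationRing R] [Field K]
    [Algebra R K] [IsFractionRing R K] [Algebra A R] [Algebra A K] [IsScalarTower A R K] (a : F.TR K ⟶ H) :
    ∃ l : F.TR R ⟶ H, F.homMap (IsScalarTower.toAlgHom A R K) ≫ l = a := by
  classical
  obtain ⟨β₀, hβ₀, x, hx, hxe⟩ := exists_hasCoord Z F hF hs a
  haveI : Finite s := hfin.to_subtype
  haveI := Fintype.ofFinite s
  let v := ValuationRing.valuation R K
  let D : (Fin d → s) → K := fun c => pd x fun i => (c i : C)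
  haveI : Nonempty (Fin d → s) := ⟨fun i => ⟨β₀ i, hβ₀ i⟩⟩
  obtain ⟨c, -, hc⟩ := Finset.exists_max_image Finset.univ (fun c => v (D c)) Finset.univ_nonempty
  have hD : D c ≠ 0 := fun h0 => by
    have := hc (fun i => ⟨β₀ i, hβ₀ i⟩) (Finset.mem_univ _)
    simp only [D] at this h0
    rw [pd_self hx, h0, map_one, map_zero] at this
    exact not_lt.2 this zero_lt_one
  obtain ⟨x', hx', hx'e, hcr⟩ := exists_isCoord_change F hx (fun i => (c i : C)) (IsUnit.mk0 _ hD)
  let P : Subalgebra A K := (IsScalarTower.toAlgHom A R K).range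
  have hP : ∀ e i, x' e i ∈ P := fun e => mem_of_span hx' P hs (fun e he i => by
    obtain ⟨r, hr⟩ := (ValuationRing.mem_integer_iff R K (x' e i)).1 (show v (x' e i) ≤ 1 by
      have h1 := hc (Function.update c i ⟨e, he⟩) (Finset.mem_univ _)
      have h2 : x' e i * D c = D (Function.update c i ⟨e, he⟩) := by
        show _ * _ = pd x _
        rw [hcr e i]
        congr 1
        exact funext fun j => by by_cases hj : j = i <;> simp [Function.update, hj]
      rw [← h2, map_mul] at h1
      exact (mul_le_iff_le_one_left (zero_lt_iff.2 (v.ne_zero_iff.2 hD))).1 h1)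
    exact ⟨r, hr⟩) e
  choose y hy using hP
  have hyx : (fun e i => IsScalarTower.toAlgHom A R K (y e i)) = x' := funext fun e => funext (hy e)
  have hy' : IsCoord A (fun i => (c i : C)) y :=
    IsCoord.of_injective (IsScalarTower.toAlgHom A R K) (IsFractionRing.injective R K) (by rw [hyx]; exact hx')
  obtain ⟨l, hl, -⟩ := hZ (F.TR R) (F.zOf hy')
  refine ⟨l, hom_ext Z hZ _ _ ?_⟩
  rw [HilbBC25.pull_comp, hl, F.pull_zOf, hxe, ← hx'e]
  congr 2

end Groth.Agent.HilbProj18
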