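import Groth.Agent.Lib.HilbRep25.Cover
import Mathlib.LinearAlgebra.Determinant
import Mathlib.LinearAlgebra.Matrix.Determinant.Basic

/-!
# Change of the distinguished elements in coordinates of a family of points
-/

set_option autoImplicit false
set_option linter.unusedSectionVars false
set_option backward.isDefEq.respectTransparency.types false

universe u

open CategoryTheory CategoryTheory.Limits AlgebraicGeometry
open scoped TensorProduct

namespace Groth.Agent.HilbProj18

open Groth.Agent.HilbRep25

variable {A C : Type u} [CommRing A] [CommRing C] [Algebra A C] {d : ℕ}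

/-- The Plücker coordinate of a tuple. -/
noncomputable def pd {R : Type*} [CommRing R] (x : C → Fin d → R) (c : Fin d → C) : R :=
  (Matrix.of fun i j => x (c j) i).det

variable {β : Fin d → C} {R : Type u} [CommRing R] [Algebra A R] {x : C → Fin d → R}

theorem pd_self (hx : IsCoord A β x) : pd x β = 1 := by
  have h : (Matrix.of fun i j => x (β j) i) = (1 : Matrix (Fin d) (Fin d) R) := by
    ext i j
    simp [hx.unit, Matrix.one_apply, eq_comm]
  rw [pd, h, Matrix.det_one]

theorem pd_map {R' : Type*} [CommRing R'] (g : R →+* R') (c : Fin d → C) :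
    pd (fun z i => g (x z i)) c = g (pd x c) := by
  rw [pd, pd, RingHom.map_det]
  rfl

theorem pd_update (hx : IsCoord A β x) (i : Fin d) (c : C) : pd x (Function.update β i c) = x c i := by
  classical
  have h : (Matrix.of fun k j => x (Function.update β i c j) k) =
      (1 : Matrix (Fin d) (Fin d) R).updateCol i (x c) := by
    ext k j
    by_cases hj : j = i
    · subst hj; simp
    · simp [Matrix.updateCol_apply, hj, hx.unit, Matrix.one_apply, eq_comm]
  rw [pd, h, ← Matrix.cramer_apply, Matrix.cramer_one]
  rfl

theorem det_coordBasis (hx : IsCoord A β x) (c : Fin d → C) :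
    (coordBasis hx).det (fun j => coordMap (β := β) (x := x) (c j)) = pd x c := by
  rw [Module.Basis.det_apply, pd]
  congr 1
  ext i j
  rw [Module.Basis.toMatrix_apply, Matrix.of_apply, repr_coordBasis hx]

/-- Coordinates for another tuple with invertible Plücker coordinate. -/
theorem exists_isCoord_change {X S : Scheme.{u}} {f : X ⟶ S} [IsSeparated f] (F : Frame f A C)
    (hx : IsCoord A β x) (β' : Fin d → C) (hu : IsUnit (pd x β')) :
    ∃ (x' : C → Fin d → R) (hx' : IsCoord A β' x'),
      (F.zOf hx').1 = (F.zOf hx).1 ∧ ∀ c i, x' c i * pd x β' = pd x (Function.update β' i c) := by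
  classical
  let v : Fin d → (R ⊗[A] C) ⧸ coordIdeal β x := fun j => coordMap (β := β) (x := x) (β' j)
  have hv := (Module.Basis.is_basis_iff_det (coordBasis hx) (v := v)).2 (by rw [det_coordBasis hx]; exact hu)
  let b' := Module.Basis.mk hv.1 hv.2.ge
  have hb' : ∀ i, b' i = coordMap (β := β) (x := x) (β' i) := fun i => Module.Basis.mk_apply _ _ i
  refine ⟨_, isCoord_repr (β := β') (coordMap (β := β) (x := x)) b' hb', ?_, fun c i => ?_⟩
  · rw [← F.fam_eq_zOf (isCoord_repr (β := β') (coordMap (β := β) (x := x)) b' hb') _ b' hb' fun _ _ => rfl]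
    rfl
  · rw [← det_coordBasis (R := R) hx, ← det_coordBasis (R := R) hx]
    set z := coordMap (A := A) (R := R) (β := β) (x := x) c
    change b'.repr z i * (coordBasis hx).det v = _
    have hup : (fun j => coordMap (β := β) (x := x) (Function.update β' i c j)) = Function.update v i z := by
      funext j
      by_cases hj : j = i
      · subst hj; simp [z]
      · simp [hj, v]
    rw [hup]
    conv_rhs => rw [show z = ∑ j, b'.repr z j • v j from by
      conv_lhs => rw [← b'.sum_repr z]
      simp [hb', v]]
    rw [AlternatingMap.map_update_sum, Finset.sum_eq_single i]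
    · rw [AlternatingMap.map_update_smul, Function.update_eq_self, smul_eq_mul]
    · intro j _ hj
      rw [AlternatingMap.map_update_smul, AlternatingMap.map_update_self _ _ hj.symm, smul_zero]
    · simp

/-- Coordinates with values in a subring. -/
theorem IsCoord.of_injective {R' : Type u} [CommRing R'] [Algebra A R'] (g : R →ₐ[A] R')
    (hg : Function.Injective g) (h : IsCoord A β fun c i => g (x c i)) : IsCoord A β x where
  add b c i := hg (by rw [h.add, map_add])
  smul a c i := hg (by rw [h.smul, map_mul, g.commutes])
  unit j i := hg (by rw [h.unit, apply_ite g, map_one, map_zero])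
  mul b c i := hg (by rw [h.mul, map_sum]; simp)

/-- Coordinates are determined on generators. -/
theorem mem_of_span (hx : IsCoord A β x) (P : Subalgebra A R) {s : Set C} (hs : Submodule.span A s = ⊤)
    (h : ∀ c ∈ s, ∀ i, x c i ∈ P) (c : C) : ∀ i, x c i ∈ P := by
  have hc : c ∈ Submodule.span A s := hs ▸ trivial
  induction hc using Submodule.span_induction with
  | mem c hc => exact h c hc
  | zero =>
    intro i
    have := hx.smul (0 : A) (0 : C) i
    rw [zero_smul, map_zero, zero_mul] at this
    rw [this]; exact P.zero_mem
  | add a b _ _ ha hb => exact fun i => (hx.add a b i).symm ▸ P.add_mem (ha i) (hb i)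
  | smul a b _ hb => exact fun i => (hx.smul a b i).symm ▸ P.mul_mem (P.algebraMap_mem a) (hb i)

end Groth.Agent.HilbProj18
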