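import Groth.Agent.Lib.HilbProj18.Vamp

/-!
# Hilbert schemes of points of finite morphisms are projective
-/

set_option autoImplicit false
set_option linter.style.haveILetI false
set_option linter.unusedSectionVars false
set_option backward.isDefEq.respectTransparency.types false

universe u

open CategoryTheory CategoryTheory.Limits AlgebraicGeometry TopologicalSpace exteriorPower
open scoped TensorProduct

noncomputable section

namespace Groth.Agent.HilbProj18

open Groth.Agent.HilbRep25

variable {X S : Scheme.{u}} {f : X ⟶ S} [IsFinite f] {d : ℕ} {H : Over S} (Z : HilbD.Obj f d H)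
  (hZ : HilbD.IsUniversal f d H Z)

include hZ in
theorem quasiCompact_hom : QuasiCompact H.hom := by
  refine (quasiCompact_iff_forall_isAffineOpen (f := H.hom)).2 fun V hV => ?_
  letI := (f.appLE V (f ⁻¹ᵁ V) le_rfl).hom.toAlgebra
  let F := fr f V hV
  obtain ⟨s, hfin, hs⟩ := exists_finset (f := f) V hV
  haveI : Finite s := hfin.to_subtype
  choose k hk hko hkf using fun c : Fin d → s => exists_chartHom Z hZ F fun i => (c i : Γ(X, f ⁻¹ᵁ V))
  have hVr : hV.fromSpec.opensRange = V := hV.opensRange_fromSpec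
  have e : ((H.hom ⁻¹ᵁ V : H.left.Opens) : Set H.left) = ⋃ c, Set.range (k c).left := by
    apply subset_antisymm
    · intro y hy
      obtain ⟨c, hc, hy'⟩ := exists_mem_range Z hZ F (preimage_fr V hV) hs y (by
        show H.hom y ∈ hV.fromSpec.opensRange
        rw [hVr]; exact hy)
      exact Set.mem_iUnion.2 ⟨fun i => ⟨c i, hc i⟩, hy' (k fun i => ⟨c i, hc i⟩) (hk _)⟩
    · refine Set.iUnion_subset fun c => ?_
      rintro _ ⟨z, rfl⟩
      show H.hom ((k c).left z) ∈ V
      rw [← Scheme.Hom.comp_apply, Over.w (k c)]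
      exact hVr.le ⟨_, rfl⟩
  rw [e]
  refine isCompact_iUnion fun c => ?_
  exact isCompact_range (k c).left.continuous

include hZ in
theorem existence : ValuativeCriterion.Existence H.hom := by
  intro sq
  let R := sq.R
  let K := sq.K
  obtain ⟨V, hV, hxV, -⟩ := exists_isAffineOpen_mem_and_subset (X := S)
    (x := sq.i₂ (IsLocalRing.closedPoint R)) (U := ⊤) trivial
  letI := (f.appLE V (f ⁻¹ᵁ V) le_rfl).hom.toAlgebra
  let F := fr f V hV
  obtain ⟨s, hfin, hs⟩ := exists_finset (f := f) V hV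
  have hsub : Set.range sq.i₂ ⊆ Set.range F.vA := by
    rintro _ ⟨z, rfl⟩
    show sq.i₂ z ∈ Set.range hV.fromSpec
    rw [hV.range_fromSpec]
    exact ((IsLocalRing.specializes_closedPoint z).map sq.i₂.continuous).mem_open V.2 hxV
  obtain ⟨φA, hφA⟩ := Spec.map_surjective (IsOpenImmersion.lift F.vA sq.i₂ hsub)
  letI : Algebra Γ(S, V) R := φA.hom.toAlgebra
  letI : Algebra Γ(S, V) K := ((algebraMap R K).comp φA.hom).toAlgebra
  haveI : IsScalarTower Γ(S, V) R K := .of_algebraMap_eq fun _ => rfl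
  have hR : (F.TR R).hom = sq.i₂ := by
    show Spec.map φA ≫ F.vA = _
    rw [hφA, IsOpenImmersion.lift_fac]
  have hKR : (F.TR K).hom = Spec.map (CommRingCat.ofHom (algebraMap R K)) ≫ (F.TR R).hom := by
    show Spec.map (φA ≫ CommRingCat.ofHom (algebraMap R K)) ≫ F.vA = _
    rw [Spec.map_comp, Category.assoc]
    rfl
  let a : F.TR K ⟶ H := Over.homMk sq.i₁ (by rw [hKR, hR]; exact sq.commSq.w)
  obtain ⟨l, hl⟩ := exists_extension (R := R) (K := K) Z hZ F (preimage_fr V hV) hfin hs a
  exact ⟨⟨⟨l.left, congrArg CommaMorphism.left hl, (Over.w l).trans hR⟩⟩⟩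

theorem finite_extPow {A M : Type u} [CommRing A] [AddCommGroup M] [Module A M] [Module.Finite A M] (n : ℕ) :
    Module.Finite A ↥(⋀[A]^n M) := inferInstance

include hZ in
theorem isProjective_hom : RelProj.IsProjective H.hom := by
  obtain ⟨φE, hφ⟩ := exists_phi Z
  have hva := vamp_phi Z hZ hφ
  have hE : Coh.IsQCoh (Wedge2.extMod d (E₀ f)) := Wedge2.isQCoh_extMod d (E₀ f)
  have hE₀ : Coh.IsCoh (E₀ f) :=
    Cyc26.isCoh_push_finite f (M1.isCoh_structureModule X)
  have hFT : CohB1.IsFT (Wedge2.extMod d (E₀ f)) := M1.isFT_of_finite_sections hE fun U hU => by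
    haveI := M1.finite_sections hE₀.1 hE₀.2 hU
    haveI := finite_extPow (A := Γ(S, U)) (M := Γ(E₀ f, U)) d
    exact Module.Finite.of_surjective _ (Wedge2.surjective_secExt d (E₀ f) hU)
  obtain ⟨P, p, chart, hP⟩ := RelProj11.exists_isRelProj (VA11.symGr hE)
  obtain ⟨O1, lam, hL⟩ := RelProj11.exists_isRelTwist hP 1
  obtain ⟨i, hi, hip, -⟩ := VA11.exists_immersion_of_vamp hE hva (VA11.isGrSymAlg_symGr hE) hP hL
  haveI := QuotProj11.isProper_of_isRelProj hP (VA11.isGenDegOne_of_isGrSymAlg hE (VA11.isGrSymAlg_symGr hE))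
    (VA11.isFTDeg_one_of_isGrSymAlg hE hFT (VA11.isGrSymAlg_symGr hE))
  haveI : IsSeparated H.hom := by rw [← hip]; infer_instance
  haveI : LocallyOfFiniteType H.hom := by rw [← hip]; infer_instance
  haveI := quasiCompact_hom Z hZ
  haveI : UniversallyClosed H.hom := UniversallyClosed.of_valuativeCriterion H.hom (existence Z hZ)
  haveI : IsProper H.hom := ⟨⟩
  exact VA11.isProjective_of_vamp hE hFT hva

end Groth.Agent.HilbProj18
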