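import Groth.Agent.Lib.HilbProj18.Coord
import Groth.Agent.Lib.Grass18.Theta
import Groth.Agent.Lib.Cyc26.PushFin
import Mathlib.AlgebraicGeometry.Morphisms.FlatRank

/-!
# Sections of the universal family over a chart
-/

set_option autoImplicit false
set_option linter.unusedSectionVars false
set_option linter.style.haveILetI false
set_option backward.isDefEq.respectTransparency false
set_option backward.isDefEq.respectTransparency.types false

universe u

open CategoryTheory CategoryTheory.Limits AlgebraicGeometry TopologicalSpace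
open scoped TensorProduct

noncomputable section

namespace Groth.Agent.HilbProj18

open Groth.Agent.HilbRep25

/-- Reading off a ring homomorphism from a morphism into an affine open. -/
theorem appLE_specMap_fromSpec {X Y : Scheme.{u}} {V : X.Opens} (hV : IsAffineOpen V) {R : CommRingCat.{u}}
    (φ : Γ(X, V) ⟶ R) (j : Spec R ⟶ Y) (g : Y ⟶ X) (hj : j ≫ g = Spec.map φ ≫ hV.fromSpec) {W : Y.Opens}
    (hW : W ≤ g ⁻¹ᵁ V) (hjW : ⊤ ≤ j ⁻¹ᵁ W) :
    g.appLE V W hW ≫ j.appLE W ⊤ hjW ≫ (Scheme.ΓSpecIso R).hom = φ := by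
  have e1 : (Spec.map φ ≫ hV.fromSpec).app V =
      hV.fromSpec.app V ≫ (Spec.map φ).app (hV.fromSpec ⁻¹ᵁ V) := Scheme.Hom.comp_app _ _ _
  have h2 : ⊤ ≤ (Spec.map φ ≫ hV.fromSpec) ⁻¹ᵁ V := hj ▸ hjW.trans (j.preimage_mono hW)
  rw [Scheme.Hom.appLE_comp_appLE_assoc]
  have e2 : (j ≫ g).appLE V ⊤ (hjW.trans (j.preimage_mono hW)) = (Spec.map φ ≫ hV.fromSpec).appLE V ⊤ h2 := by
    simp only [hj]
  rw [e2, Scheme.Hom.appLE, e1, hV.fromSpec_app_self]
  simp only [Category.assoc]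
  rw [Scheme.Hom.naturality_assoc, ← Functor.map_comp_assoc, Iso.inv_comp_eq]
  have e3 : ∀ (i : Opposite.op (⊤ : (Spec R).Opens) ⟶ Opposite.op (⊤ : (Spec R).Opens)),
      (Spec R).presheaf.map i = 𝟙 _ := fun i => by
    rw [Subsingleton.elim i (𝟙 _), CategoryTheory.Functor.map_id]
  erw [e3, Category.id_comp, Scheme.ΓSpecIso_naturality]

/-- Reading off is bijective for an open immersion onto the open. -/
theorem bijective_appLE_ΓSpecIso {X : Scheme.{u}} {R : CommRingCat.{u}} (j : Spec R ⟶ X) [IsOpenImmersion j]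
    (O : X.Opens) (hO : O = j.opensRange) (h : ⊤ ≤ j ⁻¹ᵁ O) :
    Function.Bijective (j.appLE O ⊤ h ≫ (Scheme.ΓSpecIso R).hom) := by
  haveI : IsIso (j.appLE O ⊤ h) := by
    rw [Scheme.Hom.appLE]
    haveI : IsIso (j.app O) := Scheme.Hom.isIso_app j O hO.le
    haveI : IsIso (homOfLE h : (⊤ : (Spec R).Opens) ⟶ j ⁻¹ᵁ O) :=
      ⟨homOfLE le_top, Subsingleton.elim _ _, Subsingleton.elim _ _⟩
    infer_instance
  exact ConcreteCategory.bijective_of_isIso _

variable {X S : Scheme.{u}} {f : X ⟶ S} {d : ℕ} {H : Over S} (Z : HilbD.Obj f d H)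

/-- The projection of the universal family to the base of the family. -/
abbrev pZ : Z.1.subscheme ⟶ H.left := Z.1.subschemeι ≫ PicF.XTproj f H

/-- The projection of the universal family to `X`. -/
abbrev rZ : Z.1.subscheme ⟶ X := Z.1.subschemeι ≫ pullback.fst f H.hom

theorem rZ_f : rZ Z ≫ f = pZ Z ≫ H.hom := by
  simp [pullback.condition]

theorem preimage_le (V : S.Opens) : pZ Z ⁻¹ᵁ (H.hom ⁻¹ᵁ V) ≤ rZ Z ⁻¹ᵁ (f ⁻¹ᵁ V) := by
  have := congrArg (fun g : Z.1.subscheme ⟶ S => g ⁻¹ᵁ V) (rZ_f Z)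
  simp only [Scheme.Hom.comp_preimage] at this ⊢
  exact this.ge

/-- The module of functions on the family. -/
def NN : H.left.Modules := (Scheme.Modules.pushforward (pZ Z)).obj (Coh.structureModule Z.1.subscheme)

instance isQCoh_NN : Coh.IsQCoh (NN Z) := by
  haveI : IsFinite (pZ Z) := Z.2.1.1
  exact M1.isQCoh_push (pZ Z) (M1.isQCoh_structureModule _)

/-- Functions on `X` as functions on the family. -/
def psi (V : S.Opens) : Γ(X, f ⁻¹ᵁ V) →+ Γ(NN Z, H.hom ⁻¹ᵁ V) :=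
  ((rZ Z).appLE (f ⁻¹ᵁ V) (pZ Z ⁻¹ᵁ (H.hom ⁻¹ᵁ V)) (preimage_le Z V)).hom.toAddMonoidHom

variable [IsSeparated f]

section abstract

variable (V : S.Opens) (hV : IsAffineOpen V) (hU : IsAffineOpen (f ⁻¹ᵁ V)) [Algebra Γ(S, V) Γ(X, f ⁻¹ᵁ V)]
  (F : Frame f Γ(S, V) Γ(X, f ⁻¹ᵁ V)) (hvA : F.vA = hV.fromSpec) (huC : F.uC = hU.fromSpec)
  {R Q : Type u} [CommRing R] [Algebra Γ(S, V) R] [CommRing Q] [Algebra Γ(S, V) Q] [Algebra R Q]
  [IsScalarTower Γ(S, V) R Q] (γ : Γ(X, f ⁻¹ᵁ V) →ₐ[Γ(S, V)] Q) (cb : Module.Basis (Fin d) R Q)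

include hvA huC in
/-- Sections of a family over an open where it is given by a quotient algebra. -/
theorem exists_basis_gen [IsClosedImmersion (F.iota R γ)] (k : F.TR R ⟶ H) [IsOpenImmersion k.left]
    (hk : HilbD.pull f k Z.1 = (F.iota R γ).ker) (O : H.left.Opens) (hO : O = k.left.opensRange)
    (hOV : O ≤ H.hom ⁻¹ᵁ V) :
    ∃ (ρ : R →+* Γ(H.left, O)) (b : Module.Basis (Fin d) Γ(H.left, O) Γ(NN Z, O)),
      Function.Bijective ρ ∧
      (∀ (e : ⊤ ≤ k.left ⁻¹ᵁ O) (h : Γ(H.left, O)),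
        ρ ((k.left.appLE O ⊤ e ≫ (Scheme.ΓSpecIso (CommRingCat.of R)).hom) h) = h) ∧
      (∀ a : Γ(S, V), ρ (algebraMap Γ(S, V) R a) = H.hom.appLE V O hOV a) ∧
      ∀ c i, b.repr (M1.mres (NN Z) hOV (psi Z V c)) i = ρ (cb.repr (γ c) i) := by
  let P := pullback (PicF.XTmap f k) Z.1.subschemeι
  have hker : (pullback.fst (PicF.XTmap f k) Z.1.subschemeι).ker = (F.iota R γ).ker := by
    rw [Scheme.IdealSheafData.ker_fst_of_isClosedImmersion, Scheme.IdealSheafData.ker_subschemeι,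
      ← HilbBC25.pull_eq_comap, hk]
  let e₁ : Spec (CommRingCat.of Q) ⟶ P :=
    IsClosedImmersion.lift (pullback.fst (PicF.XTmap f k) Z.1.subschemeι) (F.iota R γ) hker.le
  let e₂ : P ⟶ Spec (CommRingCat.of Q) :=
    IsClosedImmersion.lift (F.iota R γ) (pullback.fst (PicF.XTmap f k) Z.1.subschemeι) hker.ge
  have he₁ : e₁ ≫ pullback.fst (PicF.XTmap f k) Z.1.subschemeι = F.iota R γ := IsClosedImmersion.lift_fac _ _ _
  have he₂ : e₂ ≫ F.iota R γ = pullback.fst (PicF.XTmap f k) Z.1.subschemeι := IsClosedImmersion.lift_fac _ _ _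
  haveI : IsIso e₁ := ⟨e₂, by rw [← cancel_mono (F.iota R γ), Category.assoc, he₂, he₁, Category.id_comp],
    by rw [← cancel_mono (pullback.fst (PicF.XTmap f k) Z.1.subschemeι), Category.assoc, he₁, he₂,
      Category.id_comp]⟩
  let j : Spec (CommRingCat.of Q) ⟶ Z.1.subscheme := e₁ ≫ pullback.snd (PicF.XTmap f k) Z.1.subschemeι
  have sq : IsPullback j (Spec.map (CommRingCat.ofHom (algebraMap R Q))) (pZ Z) k.left := by
    refine (HilbBC25.isPullback_subscheme f k Z.1).of_iso (asIso e₁).symm (Iso.refl _) (Iso.refl _) (Iso.refl _)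
      ?_ ?_ (by simp) (by simp)
    · simp [j]
    · simp only [Iso.symm_hom, asIso_inv, Iso.refl_hom, Category.comp_id]
      rw [IsIso.eq_inv_comp, ← F.iota_proj γ, ← he₁, Category.assoc]
  haveI : IsOpenImmersion j :=
    MorphismProperty.of_isPullback (P := @IsOpenImmersion) sq.flip ‹IsOpenImmersion k.left›
  let W := pZ Z ⁻¹ᵁ O
  have hjr : W = j.opensRange := by
    apply Opens.ext
    have := Scheme.image_preimage_eq_of_isPullback sq.flip Set.univ
    simp only [Set.preimage_univ, Set.image_univ] at this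
    show _ = Set.range j
    rw [this]
    exact congrArg (fun U : H.left.Opens => (pZ Z) ⁻¹' (U : Set H.left)) hO
  have hkO : ⊤ ≤ k.left ⁻¹ᵁ O := fun y _ => by rw [hO]; exact ⟨y, rfl⟩
  have hjW : ⊤ ≤ j ⁻¹ᵁ W := fun y _ => by rw [hjr]; exact ⟨y, rfl⟩
  let ρ₀ : Γ(H.left, O) ⟶ CommRingCat.of R := k.left.appLE O ⊤ hkO ≫ (Scheme.ΓSpecIso _).hom
  let ε : Γ(Z.1.subscheme, W) ⟶ CommRingCat.of Q := j.appLE W ⊤ hjW ≫ (Scheme.ΓSpecIso _).hom
  have hρb : Function.Bijective ρ₀ := bijective_appLE_ΓSpecIso k.left O hO hkO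
  have hεb : Function.Bijective ε := bijective_appLE_ΓSpecIso j W hjr hjW
  have hρε : (pZ Z).app O ≫ ε = ρ₀ ≫ CommRingCat.ofHom (algebraMap R Q) := by
    simp only [ρ₀, ε, Category.assoc]
    rw [← Scheme.ΓSpecIso_naturality, ← Category.assoc, ← Category.assoc, Scheme.Hom.app_eq_appLE,
      Scheme.Hom.appLE_comp_appLE, show (Spec.map (CommRingCat.ofHom (algebraMap R Q))).appTop =
        (Spec.map (CommRingCat.ofHom (algebraMap R Q))).appLE ⊤ ⊤ le_rfl from
          (Scheme.Hom.app_eq_appLE _).trans rfl, Scheme.Hom.appLE_comp_appLE]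
    simp only [sq.w]
  have hWV : W ≤ rZ Z ⁻¹ᵁ (f ⁻¹ᵁ V) := ((pZ Z).preimage_mono hOV).trans (preimage_le Z V)
  have hjr' : j ≫ rZ Z = Spec.map (CommRingCat.ofHom γ.toRingHom) ≫ hU.fromSpec := by
    show (e₁ ≫ pullback.snd _ _) ≫ Z.1.subschemeι ≫ pullback.fst f H.hom = _
    rw [Category.assoc, ← pullback.condition_assoc, HilbBC25.XTmap_fst, ← Category.assoc e₁, he₁]
    rw [← huC]
    exact F.iota_fst γ
  have hεψ : ∀ c, ε ((rZ Z).appLE (f ⁻¹ᵁ V) W hWV c) = γ c := fun c =>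
    congr($(appLE_specMap_fromSpec hU (CommRingCat.ofHom γ.toRingHom) j (rZ Z) hjr' hWV hjW).hom c)
  have hρA : ∀ a, ρ₀ (H.hom.appLE V O hOV a) = algebraMap Γ(S, V) R a := fun a =>
    congr($(appLE_specMap_fromSpec hV (CommRingCat.ofHom (algebraMap Γ(S, V) R)) k.left H.hom ((Over.w k).trans (by rw [← hvA]; rfl))
      hOV hkO).hom a)
  let er : Γ(H.left, O) ≃+* R := RingEquiv.ofBijective ρ₀.hom hρb
  have hsmul : ∀ (h : Γ(H.left, O)) (m : Γ(NN Z, O)),
      ε (show Γ(Z.1.subscheme, W) from h • m) = er h • ε (show Γ(Z.1.subscheme, W) from m) := fun h m => by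
    show ε ((pZ Z).app O h * (show Γ(Z.1.subscheme, W) from m)) = _
    rw [map_mul, Algebra.smul_def]
    congr 1
    exact congr($(hρε).hom h)
  let Φ : Γ(NN Z, O) →ₗ[Γ(H.left, O)] (Fin d → Γ(H.left, O)) :=
    { toFun := fun m i => er.symm (cb.repr (ε (show Γ(Z.1.subscheme, W) from m)) i)
      map_add' := fun m m' => funext fun i => by
        show er.symm (cb.repr (ε ((show Γ(Z.1.subscheme, W) from m) + (show Γ(Z.1.subscheme, W) from m'))) i) = _
        simp [map_add]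
      map_smul' := fun h m => funext fun i => by
        show er.symm (cb.repr (ε (show Γ(Z.1.subscheme, W) from h • m)) i) = h • _
        rw [hsmul, map_smul, Finsupp.smul_apply, smul_eq_mul, map_mul, RingEquiv.symm_apply_apply]
        rfl }
  have hΦ : Function.Bijective Φ := by
    refine ⟨fun m m' e => hεb.1 (cb.repr.injective (Finsupp.ext fun i => er.symm.injective (congrFun e i))),
      fun v => ?_⟩
    obtain ⟨m, hm⟩ := hεb.2 (cb.repr.symm (Finsupp.equivFunOnFinite.symm fun i => er (v i)))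
    refine ⟨(show Γ(NN Z, O) from m), funext fun i => ?_⟩
    show er.symm (cb.repr (ε m) i) = v i
    rw [hm, LinearEquiv.apply_symm_apply]
    simp
  refine ⟨er.symm.toRingHom, Module.Basis.ofEquivFun (LinearEquiv.ofBijective Φ hΦ), er.symm.bijective,
    fun _ h => er.symm_apply_apply h, fun a => (RingEquiv.symm_apply_eq er).2 (hρA a).symm, fun c i => ?_⟩
  rw [Module.Basis.ofEquivFun_repr_apply]
  show er.symm (cb.repr (ε _) i) = er.symm _
  congr 1
  refine congrArg (fun q => cb.repr q i) ((congrArg ε ?_).trans (hεψ c))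
  show M1.ores ((pZ Z).preimage_mono hOV) ((rZ Z).appLE _ _ (preimage_le Z V) c) = _
  exact congr($((rZ Z).appLE_map (preimage_le Z V) (homOfLE ((pZ Z).preimage_mono hOV)).op).hom c)

end abstract

end Groth.Agent.HilbProj18
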