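import Groth.Agent.Lib.HilbProj18.Sec

/-!
# Sections of the universal family over a chart, for the universal coordinates
-/

set_option autoImplicit false
set_option linter.style.haveILetI false
set_option backward.isDefEq.respectTransparency.types false

universe u

open CategoryTheory CategoryTheory.Limits AlgebraicGeometry
open scoped TensorProduct

noncomputable section

namespace Groth.Agent.HilbProj18

open Groth.Agent.HilbRep25

variable {X S : Scheme.{u}} {f : X ⟶ S} [IsSeparated f] {d : ℕ} {H : Over S} (Z : HilbD.Obj f d H)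

/-- The universal family over a chart, on sections. -/
theorem exists_basis (V : S.Opens) (hV : IsAffineOpen V) (hU : IsAffineOpen (f ⁻¹ᵁ V))
    (β : Fin d → Γ(X, f ⁻¹ᵁ V)) :
    letI := (f.appLE V (f ⁻¹ᵁ V) le_rfl).hom.toAlgebra
    ∀ (k : (frameOf f ⟨V, hV⟩ ⟨⟨f ⁻¹ᵁ V, hU⟩, le_rfl⟩).TR (Univ Γ(S, V) β) ⟶ H) [IsOpenImmersion k.left],
      HilbD.pull f k Z.1 = ((frameOf f ⟨V, hV⟩ ⟨⟨f ⁻¹ᵁ V, hU⟩, le_rfl⟩).univ β).1 →
      ∀ (O : H.left.Opens) (_ : O = k.left.opensRange) (hOV : O ≤ H.hom ⁻¹ᵁ V),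
      ∃ (ρ : Univ Γ(S, V) β →+* Γ(H.left, O)) (b : Module.Basis (Fin d) Γ(H.left, O) Γ(NN Z, O)),
        Function.Bijective ρ ∧
        (∀ (e : ⊤ ≤ k.left ⁻¹ᵁ O) (h : Γ(H.left, O)),
          ρ ((k.left.appLE O ⊤ e ≫ (Scheme.ΓSpecIso (CommRingCat.of (Univ Γ(S, V) β))).hom) h) = h) ∧
        (∀ a : Γ(S, V), ρ (algebraMap Γ(S, V) (Univ Γ(S, V) β) a) = H.hom.appLE V O hOV a) ∧
        ∀ c i, b.repr (M1.mres (NN Z) hOV (psi Z V c)) i = ρ (univCoord Γ(S, V) β c i) := by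
  letI := (f.appLE V (f ⁻¹ᵁ V) le_rfl).hom.toAlgebra
  intro k _ hk O hO hOV
  have hx := isCoord_univ Γ(S, V) β
  haveI := Module.Finite.of_basis (coordBasis hx)
  haveI := (frameOf f ⟨V, hV⟩ ⟨⟨f ⁻¹ᵁ V, hU⟩, le_rfl⟩).isClosedImmersion_iota
    (coordMap (β := β) (x := univCoord Γ(S, V) β))
    (presentation_surjective (β := β) _ (coordBasis hx) (fun i => coordBasis_apply hx i))
  obtain ⟨ρ, b, h1, h0, h2, h3⟩ := exists_basis_gen Z V hV hU (frameOf f ⟨V, hV⟩ ⟨⟨f ⁻¹ᵁ V, hU⟩, le_rfl⟩) rfl rfl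
    (coordMap (β := β) (x := univCoord Γ(S, V) β)) (coordBasis hx) k hk O hO hOV
  exact ⟨ρ, b, h1, h0, h2, fun c i => (h3 c i).trans (congrArg ρ (repr_coordBasis hx c i))⟩

end Groth.Agent.HilbProj18
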