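import Groth.Agent.Lib.HilbProj18.Wedge

/-!
# The determinant is very ample, and the Hilbert scheme of points is proper
-/

set_option autoImplicit false
set_option linter.style.haveILetI false
set_option linter.unusedSectionVars false
set_option backward.isDefEq.respectTransparency.types false

universe u

open CategoryTheory CategoryTheory.Limits AlgebraicGeometry TopologicalSpace exteriorPower
open scoped TensorProduct

noncomputable section

namespace Groth.Agent.HilbProj18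

open Groth.Agent.HilbRep25

variable {X S : Scheme.{u}} {f : X ⟶ S} [IsFinite f] {d : ℕ} {H : Over S} (Z : HilbD.Obj f d H)
  (hZ : HilbD.IsUniversal f d H Z) (V : S.Opens) (hV : IsAffineOpen V)
  {φE : Wedge2.extMod d (E₀ f) ⟶ (Scheme.Modules.pushforward H.hom).obj (Wedge2.extMod d (NN Z))}
  (hφ : ∀ (V : S.Opens), IsAffineOpen V → ∀ c : Fin d → Γ(X, f ⁻¹ᵁ V),
    VA11.secs φE V (tup c) = Wedge2.secExt d (NN Z) (H.hom ⁻¹ᵁ V) (ιMulti _ d fun i => psi Z V (c i)))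

/-- The frame of an affine open of the base. -/
abbrev fr (f : X ⟶ S) [IsFinite f] (V : S.Opens) (hV : IsAffineOpen V) :
    @Frame X S f Γ(S, V) Γ(X, f ⁻¹ᵁ V) _ _ (f.appLE V (f ⁻¹ᵁ V) le_rfl).hom.toAlgebra :=
  frameOf f ⟨V, hV⟩ ⟨⟨f ⁻¹ᵁ V, hV.preimage f⟩, le_rfl⟩

theorem preimage_fr (hV : IsAffineOpen V) :
    letI := (f.appLE V (f ⁻¹ᵁ V) le_rfl).hom.toAlgebra
    f ⁻¹ᵁ (fr f V hV).vA.opensRange ≤ (fr f V hV).uC.opensRange := by
  letI := (f.appLE V (f ⁻¹ᵁ V) le_rfl).hom.toAlgebra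
  show f ⁻¹ᵁ hV.fromSpec.opensRange ≤ (hV.preimage f).fromSpec.opensRange
  rw [IsAffineOpen.opensRange_fromSpec, IsAffineOpen.opensRange_fromSpec]

theorem exists_finset (hV : IsAffineOpen V) :
    letI := (f.appLE V (f ⁻¹ᵁ V) le_rfl).hom.toAlgebra
    ∃ s : Set Γ(X, f ⁻¹ᵁ V), s.Finite ∧ Submodule.span Γ(S, V) s = ⊤ := by
  letI := (f.appLE V (f ⁻¹ᵁ V) le_rfl).hom.toAlgebra
  haveI : Module.Finite Γ(S, V) Γ(X, f ⁻¹ᵁ V) := by
    rw [← RingHom.finite_algebraMap]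
    show (f.appLE V (f ⁻¹ᵁ V) le_rfl).hom.Finite
    rw [← Scheme.Hom.app_eq_appLE]
    exact f.finite_app V hV
  obtain ⟨s, hs⟩ := Module.Finite.fg_top (R := Γ(S, V)) (M := Γ(X, f ⁻¹ᵁ V))
  exact ⟨s, s.finite_toSet, hs⟩

theorem mem_basicOpen_iff {Y : Scheme.{u}} {R : CommRingCat.{u}} (k : Spec R ⟶ Y) (O : Y.Opens)
    (e : ⊤ ≤ k ⁻¹ᵁ O) (h : Γ(Y, O)) (z : Spec R) :
    k z ∈ Y.basicOpen h ↔
      (k.appLE O ⊤ e ≫ (Scheme.ΓSpecIso R).hom) h ∉ (show PrimeSpectrum R from z).asIdeal := by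
  have h1 : (Spec R).basicOpen (k.appLE O ⊤ e h) = k ⁻¹ᵁ Y.basicOpen h := by
    rw [Scheme.preimage_basicOpen, Scheme.Hom.appLE, CommRingCat.comp_apply, Scheme.basicOpen_res]
    exact inf_eq_right.2 le_top
  show z ∈ k ⁻¹ᵁ Y.basicOpen h ↔ _
  rw [← h1, basicOpen_eq_of_affine']
  rfl

include hφ in
/-- Sections of the determinant on a chart. -/
theorem exists_chart_data (β : Fin d → Γ(X, f ⁻¹ᵁ V))
    (k : letI := (f.appLE V (f ⁻¹ᵁ V) le_rfl).hom.toAlgebra; (fr f V hV).TR (Univ Γ(S, V) β) ⟶ H)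
    [IsOpenImmersion k.left]
    (hk : letI := (f.appLE V (f ⁻¹ᵁ V) le_rfl).hom.toAlgebra; HilbD.pull f k Z.1 = ((fr f V hV).univ β).1)
    (O : H.left.Opens) (hO : O = k.left.opensRange) (hOV : O ≤ H.hom ⁻¹ᵁ V) :
    letI := (f.appLE V (f ⁻¹ᵁ V) le_rfl).hom.toAlgebra
    ∃ ρ : Univ Γ(S, V) β →+* Γ(H.left, O), Function.Bijective ρ ∧
      (∀ (e : ⊤ ≤ k.left ⁻¹ᵁ O) (h : Γ(H.left, O)),
        ρ ((k.left.appLE O ⊤ e ≫ (Scheme.ΓSpecIso (CommRingCat.of (Univ Γ(S, V) β))).hom) h) = h) ∧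
      (∀ a : Γ(S, V), ρ (algebraMap Γ(S, V) (Univ Γ(S, V) β) a) = H.hom.appLE V O hOV a) ∧
      Twist.IsGen (Wedge2.extMod d (NN Z)) O (M1.mres _ hOV (VA11.secs φE V (tup β))) ∧
      ∀ c : Fin d → Γ(X, f ⁻¹ᵁ V), M1.mres _ hOV (VA11.secs φE V (tup c)) =
        ρ (pd (univCoord Γ(S, V) β) c) • M1.mres _ hOV (VA11.secs φE V (tup β)) := by
  letI := (f.appLE V (f ⁻¹ᵁ V) le_rfl).hom.toAlgebra
  obtain ⟨ρ, b, h1, h0, h2, h3⟩ := exists_basis Z V hV (hV.preimage f) β k hk O hO hOV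
  haveI hOaff : IsAffineOpen O := hO ▸ isAffineOpen_opensRange k.left
  have hres : ∀ c : Fin d → Γ(X, f ⁻¹ᵁ V), M1.mres _ hOV (VA11.secs φE V (tup c)) =
      ρ (pd (univCoord Γ(S, V) β) c) • Wedge2.secExt d (NN Z) O (ιMulti _ d ⇑b) := fun c => by
    rw [hφ V hV, Wedge2.mres_secExt, Wedge2.resExt_ιMulti, ← map_smul]
    congr 1
    obtain ⟨r, hr⟩ := (Wedge2.bijective_smul_top b).2 (ιMulti _ d fun i => M1.mres (NN Z) hOV (psi Z V (c i)))
    have hr' := congrArg (exteriorPower.alternatingMapLinearEquiv b.det) hr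
    rw [map_smul, exteriorPower.alternatingMapLinearEquiv_apply_ιMulti,
      exteriorPower.alternatingMapLinearEquiv_apply_ιMulti, b.det_self, smul_eq_mul, mul_one,
      Module.Basis.det_apply] at hr'
    rw [← hr, hr', ← pd_map, pd]
    congr 2
    ext i j
    rw [Module.Basis.toMatrix_apply, Matrix.of_apply]
    exact h3 (c j) i
  have hβ : M1.mres _ hOV (VA11.secs φE V (tup β)) = Wedge2.secExt d (NN Z) O (ιMulti _ d ⇑b) := by
    rw [hres, pd_self (isCoord_univ Γ(S, V) β), map_one, one_smul]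
  refine ⟨ρ, h1, h0, h2, ?_, fun c => by rw [hres, hβ]⟩
  rw [hβ]
  haveI : Coh.IsQCoh (Wedge2.extMod d (NN Z)) := Wedge2.isQCoh_extMod d (NN Z)
  refine SymSq10.isGen_of_span _ hOaff _ (fun y => ?_) fun c hc => ?_
  · obtain ⟨w, rfl⟩ := Wedge2.surjective_secExt d (NN Z) hOaff y
    obtain ⟨r, rfl⟩ := (Wedge2.bijective_smul_top b).2 w
    exact ⟨r, map_smul _ _ _⟩
  · rw [← map_smul] at hc
    exact (Wedge2.bijective_smul_top b).1 ((Wedge2.injective_secExt d (NN Z) hOaff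
      (hc.trans (map_zero _).symm)).trans (zero_smul _ _).symm)

include hZ hφ in
/-- The generating locus of a tuple is its chart. -/
theorem gl_eq (β : Fin d → Γ(X, f ⁻¹ᵁ V))
    (k : letI := (f.appLE V (f ⁻¹ᵁ V) le_rfl).hom.toAlgebra; (fr f V hV).TR (Univ Γ(S, V) β) ⟶ H)
    [IsOpenImmersion k.left]
    (hk : letI := (f.appLE V (f ⁻¹ᵁ V) le_rfl).hom.toAlgebra; HilbD.pull f k Z.1 = ((fr f V hV).univ β).1) :
    VA11.gl (VA11.secs φE V (tup β)) = k.left.opensRange := by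
  letI := (f.appLE V (f ⁻¹ᵁ V) le_rfl).hom.toAlgebra
  let F := fr f V hV
  have hle : ∀ (γ : Fin d → Γ(X, f ⁻¹ᵁ V)) (l : F.TR (Univ Γ(S, V) γ) ⟶ H) [IsOpenImmersion l.left],
      l.left.opensRange ≤ H.hom ⁻¹ᵁ V := by
    rintro γ l _ _ ⟨z, rfl⟩
    show H.hom (l.left z) ∈ V
    rw [← Scheme.Hom.comp_apply, Over.w l]
    have : F.vA (Spec.map (CommRingCat.ofHom (algebraMap Γ(S, V) (Univ Γ(S, V) γ))) z) ∈ hV.fromSpec.opensRange :=
      ⟨_, rfl⟩
    rw [IsAffineOpen.opensRange_fromSpec] at this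
    exact this
  obtain ⟨ρ, -, -, -, hgen, -⟩ := exists_chart_data Z V hV hφ β k hk _ rfl (hle β k)
  refine le_antisymm (fun y hy => ?_) (VA11.le_gl _ hgen)
  have hyV : H.hom y ∈ F.vA.opensRange := by
    show H.hom y ∈ hV.fromSpec.opensRange
    rw [IsAffineOpen.opensRange_fromSpec]
    exact VA11.gl_le (VA11.secs φE V (tup β)) (show y ∈ _ from hy)
  obtain ⟨β', -, hβ'⟩ := exists_mem_range Z hZ F (preimage_fr V hV) (s := Set.univ) Submodule.span_univ y hyV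
  obtain ⟨k', hk', hk'o, hk'f⟩ := exists_chartHom Z hZ F β'
  haveI := hk'o
  obtain ⟨z, hz⟩ := hβ' k' hk'
  have hy' : y ∈ k'.left.opensRange := ⟨z, hz⟩
  obtain ⟨ρ', hρ'b, hρ', -, hgen', hsec'⟩ := exists_chart_data Z V hV hφ β' k' hk' _ rfl (hle β' k')
  let W := k'.left.opensRange ⊓ VA11.gl (VA11.secs φE V (tup β))
  have hWy : y ∈ W := ⟨hy', hy⟩
  have hW' : W ≤ k'.left.opensRange := inf_le_left
  set σ := M1.mres _ (hW'.trans (hle β' k')) (VA11.secs φE V (tup β)) with hσ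
  have e1 : σ = M1.ores hW' (ρ' (pd (univCoord Γ(S, V) β') β)) •
      M1.mres _ (hW'.trans (hle β' k')) (VA11.secs φE V (tup β')) := by
    have := congrArg (M1.mres _ hW') (hsec' β)
    rwa [M1.mres_smul, M1.mres_mres, M1.mres_mres] at this
  have hg : Twist.IsGen _ W (M1.mres (Wedge2.extMod d (NN Z)) (hW'.trans (hle β' k')) (VA11.secs φE V (tup β))) :=
    VA11.isGen_of_le_gl (V := W) inf_le_right
  obtain ⟨r, hr⟩ := (hg W le_rfl).2 (M1.mres _ (hW'.trans (hle β' k')) (VA11.secs φE V (tup β')))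
  replace hr : r • σ = M1.mres _ (hW'.trans (hle β' k')) (VA11.secs φE V (tup β')) := by
    simpa only [M1.mres_mres] using hr
  have hu : IsUnit (M1.ores hW' (ρ' (pd (univCoord Γ(S, V) β') β))) := by
    refine IsUnit.of_mul_eq_one_right r (((hgen'.mres hW') W le_rfl).1 ?_)
    simp only [M1.mres_mres, one_smul]
    rw [mul_smul, ← e1]
    exact hr
  have hyD : y ∈ H.left.basicOpen (ρ' (pd (univCoord Γ(S, V) β') β)) := by
    have := H.left.basicOpen_of_isUnit hu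
    rw [VA11.basicOpen_ores] at this
    exact (this.ge hWy).2
  have hkO : ⊤ ≤ k'.left ⁻¹ᵁ k'.left.opensRange := fun w _ => ⟨w, rfl⟩
  rw [← hz, mem_basicOpen_iff k'.left _ hkO, hρ'b.1 (hρ' hkO _)] at hyD
  -- the point with values in the residue field
  let K := (z : PrimeSpectrum (Univ Γ(S, V) β')).asIdeal.ResidueField
  let g : Univ Γ(S, V) β' →ₐ[Γ(S, V)] K := IsScalarTower.toAlgHom _ _ _
  have hxK := (isCoord_univ Γ(S, V) β').map g
  have hne : pd (fun c i => g (univCoord Γ(S, V) β' c i)) β ≠ 0 := by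
    rw [show pd (fun c i => g (univCoord Γ(S, V) β' c i)) β = g (pd (univCoord Γ(S, V) β') β) from
      pd_map g.toRingHom β]
    intro h0
    exact hyD ((Ideal.algebraMap_residueField_eq_zero).1 h0)
  have hc := hasCoord_of_isUnit Z hZ F β' (F.homMap g ≫ k') hxK
    (by rw [HilbBC25.pull_comp, hk']; exact F.pull_zOf g _) β (IsUnit.mk0 _ hne)
  obtain ⟨k₀, hk₀, -, hk₀f⟩ := exists_chartHom Z hZ F β
  obtain rfl : k₀ = k := hom_ext Z hZ _ _ (hk₀.trans hk.symm)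
  obtain ⟨h, hh⟩ := (hk₀f _).2 hc
  refine ⟨h.left (⊥ : PrimeSpectrum K), ?_⟩
  have e2 : h.left ≫ k₀.left = (F.homMap g).left ≫ k'.left := congrArg CommaMorphism.left hh
  rw [← Scheme.Hom.comp_apply, e2, Scheme.Hom.comp_apply, ← hz]
  congr 1
  exact PrimeSpectrum.ext (Ideal.ker_algebraMap_residueField _)

include hZ hφ in
/-- The sections of the determinant are very ample. -/
theorem vamp_phi : VA11.VAmp φE := by
  intro y
  obtain ⟨_, ⟨V, hV, rfl⟩, hyV, -⟩ :=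
    S.isBasis_affineOpens.exists_subset_of_mem_open (Set.mem_univ (H.hom y)) isOpen_univ
  refine ⟨V, hV, ?_⟩
  letI := (f.appLE V (f ⁻¹ᵁ V) le_rfl).hom.toAlgebra
  let F := fr f V hV
  obtain ⟨β, -, hβ⟩ := exists_mem_range Z hZ F (preimage_fr V hV) (s := Set.univ) Submodule.span_univ y (by
    show H.hom y ∈ hV.fromSpec.opensRange
    rw [IsAffineOpen.opensRange_fromSpec]; exact hyV)
  obtain ⟨k, hk, hko, -⟩ := exists_chartHom Z hZ F β
  haveI := hko
  have hgl := gl_eq Z hZ V hV hφ β k hk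
  obtain ⟨ρ, hρb, -, hρA, -, hsec⟩ := exists_chart_data Z V hV hφ β k hk _ hgl (VA11.gl_le _)
  have htop : VA11.ratSub (H.hom.app V).hom (VA11.secs φE V) (tup β) = ⊤ := by
    rw [eq_top_iff]
    rintro a -
    obtain ⟨x, rfl⟩ := hρb.2 a
    obtain ⟨q, rfl⟩ := Ideal.Quotient.mk_surjective x
    induction q using MvPolynomial.induction_on with
    | C a =>
      have e := (hρA a).trans (show H.hom.appLE V _ (VA11.gl_le _) a =
        M1.ores (VA11.gl_le (VA11.secs φE V (tup β))) (H.hom.app V a) from rfl)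
      exact e ▸ VA11.base_mem_ratSub (σ := VA11.secs φE V) a
    | add p q hp hq => rw [map_add, map_add]; exact add_mem hp hq
    | mul_X p t hp =>
      rw [map_mul, map_mul]
      refine mul_mem hp ?_
      show ρ (univCoord Γ(S, V) β t.1 t.2) ∈ _
      have e : VA11.cf (VA11.secs φE V (tup β)) (VA11.secs φE V (tup (Function.update β t.2 t.1))) =
          ρ (univCoord Γ(S, V) β t.1 t.2) := by
        have := VA11.ores_cf_eq (s := VA11.secs φE V (tup β)) le_rfl (hsec (Function.update β t.2 t.1)).symm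
        rwa [M1.ores_id, pd_update (isCoord_univ Γ(S, V) β)] at this
      exact e ▸ VA11.cf_mem_ratSub _
  refine ⟨tup β, 1, Subring.one_mem _, ?_, ?_, ?_⟩
  · rw [Scheme.basicOpen_of_isUnit _ isUnit_one, hgl]
    exact hβ k hk
  · rw [Scheme.basicOpen_of_isUnit _ isUnit_one, hgl]
    exact isAffineOpen_opensRange k.left
  · rw [eq_top_iff]
    rintro t -
    have hb := Scheme.basicOpen_of_isUnit H.left (U := VA11.gl (VA11.secs φE V (tup β))) isUnit_one
    refine ⟨0, M1.ores hb.ge t, htop ▸ Subring.mem_top _, ?_⟩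
    rw [pow_zero, mul_one]
    exact ((M1.ores_ores hb.ge (H.left.basicOpen_le 1) t).trans (M1.ores_id _ t)).symm

end Groth.Agent.HilbProj18
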