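import Groth.Agent.Lib.HilbProj18.Sec2
import Groth.Agent.Lib.HilbProj18.Charts
import Groth.Agent.Lib.VeryAmple11.ProjCrit
import Groth.Agent.Lib.SymSq10.Good

/-!
# The determinant of the universal family and its sections
-/

set_option autoImplicit false
set_option linter.style.haveILetI false
set_option linter.unusedSectionVars false
set_option backward.isDefEq.respectTransparency.types false

universe u

open CategoryTheory CategoryTheory.Limits AlgebraicGeometry TopologicalSpace exteriorPower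
open scoped TensorProduct

noncomputable section

namespace Groth.Agent.HilbProj18

open Groth.Agent.HilbRep25

variable {X S : Scheme.{u}} {f : X ⟶ S} [IsFinite f] {d : ℕ} {H : Over S} (Z : HilbD.Obj f d H)

/-- The direct image of the structure module. -/
def E₀ (f : X ⟶ S) : S.Modules := (Scheme.Modules.pushforward f).obj (Coh.structureModule X)

instance isQCoh_E₀ : Coh.IsQCoh (E₀ f) := M1.isQCoh_push f (M1.isQCoh_structureModule X)

/-- A tuple of functions as a section of the exterior power. -/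
def tup {V : S.Opens} (c : Fin d → Γ(X, f ⁻¹ᵁ V)) : Γ(Wedge2.extMod d (E₀ f), V) :=
  Wedge2.secExt d (E₀ f) V (ιMulti Γ(S, V) (M := Γ(E₀ f, V)) d c)

/-- Wedges of functions give sections of the determinant. -/
theorem exists_phi :
    ∃ φE : Wedge2.extMod d (E₀ f) ⟶ (Scheme.Modules.pushforward H.hom).obj (Wedge2.extMod d (NN Z)),
      ∀ (V : S.Opens), IsAffineOpen V → ∀ c : Fin d → Γ(X, f ⁻¹ᵁ V),
        VA11.secs φE V (tup c) = Wedge2.secExt d (NN Z) (H.hom ⁻¹ᵁ V) (ιMulti _ d fun i => psi Z V (c i)) := by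
  obtain ⟨ψ, hψ⟩ := VA11.exists_hom_of_affine (E₀ f) ((Scheme.Modules.pushforward H.hom).obj (NN Z))
    (fun U _ => psi Z U) (fun U _ r m => by
      show (rZ Z).appLE _ _ (preimage_le Z U) (f.app U r * (show Γ(X, f ⁻¹ᵁ U) from m)) =
        (pZ Z).app _ (H.hom.app U r) * (rZ Z).appLE _ _ (preimage_le Z U) (show Γ(X, f ⁻¹ᵁ U) from m)
      rw [map_mul]
      congr 1
      have e1 : f.app U ≫ (rZ Z).appLE _ _ (preimage_le Z U) = H.hom.app U ≫ (pZ Z).app _ := by
        simp only [Scheme.Hom.app_eq_appLE, Scheme.Hom.appLE_comp_appLE]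
        simp only [rZ_f Z]
      exact congr($(e1).hom r))
    (fun {U W} _ _ h m => by
      show M1.ores ((pZ Z).preimage_mono (H.hom.preimage_mono h)) ((rZ Z).appLE _ _ (preimage_le Z U) m) =
        (rZ Z).appLE _ _ (preimage_le Z W) (M1.ores (f.preimage_mono h) (show Γ(X, f ⁻¹ᵁ U) from m))
      have e1 := (rZ Z).appLE_map (preimage_le Z U) (homOfLE ((pZ Z).preimage_mono (H.hom.preimage_mono h))).op
      have e2 := (rZ Z).map_appLE (preimage_le Z W) (homOfLE (f.preimage_mono h)).op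
      exact (congr($(e1).hom (show Γ(X, f ⁻¹ᵁ U) from m))).trans
        (congr($(e2).hom (show Γ(X, f ⁻¹ᵁ U) from m))).symm)
  let adj := Scheme.Modules.pullbackPushforwardAdjunction H.hom
  let qu : (Scheme.Modules.pullback H.hom).obj (E₀ f) ⟶ NN Z := (adj.homEquiv _ _).symm ψ
  have hqv : ∀ (U : S.Opens) (hU : IsAffineOpen U) (v : Γ(E₀ f, U)), Grass18.qv H.hom qu v = psi Z U v :=
    fun U hU v =>
      (congrArg (fun χ => χ.app U v) ((adj.homEquiv_unit _ _ qu).symm.trans (Equiv.apply_symm_apply _ ψ))).trans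
        (hψ U hU v)
  let φ₀ : ∀ U : S.affineOpens, Γ(Wedge2.extMod d (E₀ f), U.1) ≃ₗ[Γ(S, U.1)] ↥(⋀[Γ(S, U.1)]^d Γ(E₀ f, U.1)) :=
    fun U => (LinearEquiv.ofBijective (Wedge2.secExt d (E₀ f) U.1)
      ⟨Wedge2.injective_secExt d (E₀ f) U.2, Wedge2.surjective_secExt d (E₀ f) U.2⟩).symm
  obtain ⟨θ, hθ⟩ := Grass18.exists_theta H.hom qu d φ₀ fun U U' h e => by
    show M1.mres _ h (Wedge2.secExt d (E₀ f) U.1 _) = Wedge2.secExt d (E₀ f) U'.1 _
    rw [Wedge2.mres_secExt, Wedge2.resExt_ιMulti]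
  refine ⟨adj.homEquiv _ _ θ, fun V hV c => ?_⟩
  have h1 := congrArg (fun χ => χ.app V (tup c)) (adj.homEquiv_unit _ _ θ)
  refine h1.trans ((hθ ⟨V, hV⟩ c).trans ?_)
  congr 2
  exact funext fun i => hqv V hV (c i)

end Groth.Agent.HilbProj18
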